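import Cfsg.Agent.Am.B
import Cfsg.Agent.Am.BG
import Cfsg.Agent.Al.F

/-! Alternating subgroups of `E₆(q)`: the easy cases in degree five and six. -/

set_option autoImplicit false

namespace CF.Am

open Module Function CF.E83 CF.Al Equiv

namespace C5

/-- Coset representatives. -/
def u (k : Fin 6) (n : ℕ) : An 6 :=
  if h : k = .ofNat 6 n then 1 else ⟨swap k (.ofNat 6 n) * swap 4 5, by
    rw [Perm.mem_alternatingGroup, map_mul, Perm.sign_swap h, Perm.sign_swap (by decide)]; rfl⟩

/-- An enumeration of `A₆`. -/
def el (n : ℕ) : An 6 := u 0 n * (u 1 (n / 6) * (u 2 (n / 36) * u 3 (n / 216)))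

/-- The table of classes. -/
def tb (g : An 6) : ℕ := 0x120b1ce414c5000000002203000005bc00bd000000002706055e00001bc100000000022c08d41b040000000000000000000000000000000000000000216421c3110e000000000000000000000000000020a400000000031e266d00000c05000012c600001b420000007b00002735040c00000000000000000000000000000000000005ed000005bd26610000067e0000000028552162000000000000000000000000000021611b6200000000007a0000132e276e00001b4100000000000000000000000000000000000000ab00dc000001de0000052c000008d50000224e00001b44019c000000001b6100000000000000000000000000001414016d03530000000000000000000000000000000000000000058c1b6412f4000000002763000001cc0b16000000000c0423d6000008d3000000002295034d21d10000000000000000000000000000000000000000000000000000000000000000000000000000000000000000000022331bd4266e000000001203000013e41a060000000001fd08a5000022b100000000031c010c1b0c000000000000000000000000000000000000000000000000000000000000000000000000000000000000000000000000000000000000000000000000000000000000000000000000000000000000000020ac0b13053d000000000000000000000000000000000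00000000000000020cc000000000000049d122e034e00000000270500001bd222ab00000000120e03ac0000000000002856000006ae20c90000000000000000000000000d5500000000000014161b120000000000000000000000002731000020ca00000000004a28250000067d00002201000000000000276b08a4000024250000000000000000000000001a0c00000000058e0000110d1b140000016c0000000022210000000000000000000000000d540000264e049b000000000000000004cc1b74049c0000000000000000000000000000004b0000000002ec22c5000012c40000019d0000068b00000ae6000023a61b11000000000000000000000000000000000000000000000000000000000000000000002046219618e100000000000000000000000000001d15000000001c060d2200000589000018e20000019a00002075000021651209000000000000000020ad1ce51a0900000000000000000000000000000000000000000000000021660000000000002045067a067900000000065a0000025a1b46000000001f8e1329000000000000000000000000000000000000000000000000000000000000000000000000000000000000000000000000000000000000000000000000000000000000000000000000000000000349000000000782001a0319000000000000043a016a00000000000000000000000000000000000000000000000001ca009200000000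00000198046a07b2000000000199000000001bd6000021950000058a1f8d00000000207600000c32000000000000000000000000141112c100000000000001c90000000000000000000000001b1520ae000006ba0000000000001b1600000ae11d1600001c05000000000b111bd500000000000000000000000000001ce61b45000000000562000005321a0a00000169000000000000000000000000000000000000000000000000000000000000000005ec00001d13224d000018e40000000023d52426000000000000000000000000000000de055d0000000022c2000015532206000021c4000000000000067c0000040b0fe6000000000000000000000000064c000000000000010e1a0500000000000000000000000023a5000022960000000022021ce30000058d000021cc000000000ae400000000007c27890794000000000000025c1fa10000000000000000000000000000000000000000000000002071282100000000000003790b1407c4000000001f89000000000000000000000000000000000000000000000000000000000000000000000000000000000000000000000000000000000000000000000000000000000000000000000000000000001fa404cd0000000014c61f84000022c60000000002f52643132b0000000000002072000000000000000000000000000000000000000000000000004e21d506ac0000000000000000207413230000025d000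01f8c0000264b0000022e0000016e07c50000000020440000000000000000000000000000079501fe1fa20000000000000000000000000000000000000000000000000000000000000000000001fc1f8b0000122d00000d240000001c00000531000026642736000000000fe500000000000000000000000000001d1423d304ce0000000000000000034c02eb000002f6000000000000000000000000132c00000000004c0000065926440000022d00000000053e0000000000000000000000001c040000044b001d0000000000002764000012f6000001dd278c00000000264d000000be0000000000000000000000001b43052b00000000000028220000000000000000000000000c35019e00002194000000000000276d28260000000021d213e6000006ad00000000273222911c01000000000000009100000000000000000000000000000000000000000000000005ee0d251bf2000000000000000000000000000000000000000000000000000000000000000000000000000000000000000000000000000000000000000000000000000000000000000000000000000000000000000020ab031d222400000000064b000021d62234000000000c34120c000023a1000000002205007e055c000000000000000000000000000000000000000000000000000000000000000000000000000000000000000000001324264c23d40000000022940000004d1b030000000001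9b00ac000012f50000000007960d210c060000000000000000000000000000000000000000065c273422c4000000000000000000000000000023a400000000049e022b00001f8300000094000007c6000012c500000c3100dd000000000000000000000000000000000000276c000004cb08d600002824000000001b73007d00000000000000000000000000000b15001e000000002854000008a60ae50000278a000000000000000000000000000000000000141507c1000013e500000d260000079100000d560000132d05be0000000022820000000000000000000000000000266222220019000000000000000000000000000000000000000020a312040c360000000005eb00000534010d00000000025e120d0000270400000000220421d40d51000000000000000000000000000000000000000000000000000000000000000000000000000000000000000000000000000000000000000000000000000000000000000000000000000000000000000000000000000000000000000000000000000000000000 >>>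
  (16 * (g.1 0 + 6 * g.1 1 + 36 * g.1 2 + 216 * g.1 3) : ℕ) % 65536

/-- Class representatives. -/
def rp (i : ℕ) : An 6 := [1, a6a, a6b, b6b, b6a, a6a * b6a, (a6a * b6a) ^ 2].getD i 1

theorem tb_spec : ∀ g : An 6, tb g % 8 < 7 ∧ el (tb g / 8) * rp (tb g % 8) = g * el (tb g / 8) := by
  decide +kernel

theorem cls (g : An 6) : ∃ i < 7, IsConj (rp i) g :=
  ⟨_, (tb_spec g).1, isConj_iff.2 ⟨_, mul_inv_eq_iff_eq_mul.2 (tb_spec g).2⟩⟩

theorem pw {S : Type*} [Group S] {x y : S} (h : IsConj x y) (n : ℕ) : x ^ n = 1 ↔ y ^ n = 1 :=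
  ⟨fun e => isConj_one_right.1 (e ▸ h.pow n), fun e => isConj_one_left.1 (e ▸ h.pow n)⟩

theorem two {g : An 6} (e : g ^ 2 = 1) (n : g ≠ 1) : IsConj a6a g := by
  obtain ⟨i, hi, h⟩ := cls g
  rw [← pow_one g, Ne, ← pw h] at n
  rw [← pw h] at e
  rwa [(by decide +kernel : ∀ i < 7, rp i ^ 2 = 1 → ¬ rp i ^ 1 = 1 → rp i = a6a) i hi e n] at h

theorem three {g : An 6} (e : g ^ 3 = 1) (n : g ≠ 1) : IsConj a6b g ∨ IsConj b6b g := by
  obtain ⟨i, hi, h⟩ := cls g
  rw [← pow_one g, Ne, ← pw h] at n
  rw [← pw h] at e
  by_cases c : rp i = a6b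
  · exact .inl (c ▸ h)
  · exact .inr ((by decide +kernel : ∀ i < 7, rp i ^ 3 = 1 ∧ ¬ rp i ^ 1 = 1 ∧ ¬ rp i = a6b → rp i = b6b)
      i hi ⟨e, n, c⟩ ▸ h)

theorem four {g : An 6} (e : g ^ 4 = 1) (n : g ^ 2 ≠ 1) : IsConj b6a g := by
  obtain ⟨i, hi, h⟩ := cls g
  rw [Ne, ← pw h] at n
  rw [← pw h] at e
  rwa [(by decide +kernel : ∀ i < 7, rp i ^ 4 = 1 → ¬ rp i ^ 2 = 1 → rp i = b6a) i hi e n] at h

theorem five {g : An 6} (e : g ^ 5 = 1) (n : g ≠ 1) :
    IsConj (a6a * b6a) g ∨ IsConj ((a6a * b6a) ^ 2) g := by
  obtain ⟨i, hi, h⟩ := cls g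
  rw [← pow_one g, Ne, ← pw h] at n
  rw [← pw h] at e
  by_cases c : rp i = a6a * b6a
  · exact .inl (c ▸ h)
  · exact .inr ((by decide +kernel : ∀ i < 7, rp i ^ 5 = 1 ∧ ¬ rp i ^ 1 = 1 ∧ ¬ rp i = a6a * b6a →
      rp i = (a6a * b6a) ^ 2) i hi ⟨e, n, c⟩ ▸ h)

theorem c1 : IsConj (b6a ^ 2) a6a := (two (by decide +kernel) (by decide +kernel)).symm
theorem r4 : Re b6a := four (by decide +kernel) (by decide +kernel)
theorem r5 : Re (a6a * b6a) :=
  isConj_iff.2 ⟨ap ![0, 4, 3, 2, 1, 5] ![0, 4, 3, 2, 1, 5], by decide +kernel⟩
theorem r3 : Re a6b := isConj_iff.2 ⟨ap ![0, 3, 2, 1, 5, 4] ![0, 3, 2, 1, 5, 4], by decide +kernel⟩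
theorem r3' : Re b6b := isConj_iff.2 ⟨ap ![0, 1, 5, 4, 3, 2] ![0, 1, 5, 4, 3, 2], by decide +kernel⟩

variable {K V S : Type*} [Field K] [AddCommGroup V] [Module K V] [FiniteDimensional K V] [Group S]

theorem un (r : S →* End K V) {p : ℕ} (k : ℕ) (pp : p.Prime) (hp : (p : K) = 0) {x : S}
    (h : x ^ p ^ k = 1) : finrank K V ≤ p ^ k * dm r x :=
  have := Fact.mk pp
  unip hp h

theorem dm_sq (r : S →* End K V) {x : S} (h : x ^ 5 = 1) : dm r (x ^ 2) = dm r x :=
  le_antisymm ((dm_le_pow _ 3).trans_eq (by rw [← pow_mul, pow_succ x 5, h, one_mul])) (dm_le_pow _ _)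

end C5

open C5

variable {K W : Type*} [Field K] [AddCommGroup W] [Module K W] [FiniteDimensional K W]
  [IsAlgClosed K] {q : ℕ} {nw : Prop}

omit [IsAlgClosed K] in
theorem c5 {r r' : An 5 →* End K (N K)} {l : An 5 →* End K W} (h : HN q r r' l) (k : HL q nw l)
    (k2 : nw → (2 : K) ≠ 0 → ∀ t, t ^ 2 = 1 → dm l t = 46 → q = 3 ∨ q = 7) : False := by
  have s := h.sco g5
  have dr := h.tb.dr
  have dl := h.tb.dl
  have r3 : Re b5 := isConj_iff.2 ⟨ap ![0, 2, 1, 4, 3] ![0, 2, 1, 4, 3], by decide +kernel⟩
  have r5 : Re (a5 * b5) := isConj_iff.2 ⟨ap ![0, 2, 1, 4, 3] ![0, 2, 1, 4, 3], by decide +kernel⟩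
  have e2 : a5 ^ 2 = 1 := by decide +kernel
  have e3 : b5 ^ 3 = 1 := by decide +kernel
  have e5 : (a5 * b5) ^ 5 = 1 := by decide +kernel
  have d3 : 9 ≤ dm r b5 ∧ 24 ≤ dm l b5 := by
    by_cases h3 : (3 : K) = 0
    · have := un r 1 Nat.prime_three (by exact_mod_cast h3) e3
      have := un l 1 Nat.prime_three (by exact_mod_cast h3) e3
      omega
    · have := h.tb.n3 h3 _ e3 (by decide +kernel) r3
      have := h.tb.t3 h3 _ e3 (by decide +kernel) r3
      omega
  have d5 : 5 ≤ dm r (a5 * b5) ∧ 16 ≤ dm l (a5 * b5) := by
    by_cases h5 : (5 : K) = 0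
    · have := un r 1 Nat.prime_five (by exact_mod_cast h5) e5
      have := un l 1 Nat.prime_five (by exact_mod_cast h5) e5
      omega
    · exact ⟨(h.tb.n5 h5 _ e5 (by decide +kernel) r5).1, (h.tb.t5 h5 _ e5 (by decide +kernel) r5).1⟩
  by_cases h2 : (2 : K) = 0
  · have := h.tb.i2 h2 _ e2
    omega
  have t := h.tb.n2 h2 _ e2 (by decide +kernel)
  have n := k.sco g5 (by omega)
  have hq := k2 n h2 _ e2 (by omega)
  have h5 : (5 : K) ≠ 0 := fun e => h2 (by
    have := h.tb.hq
    rcases hq with rfl | rfl <;> push_cast at this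
    exacts [by linear_combination e - this, by linear_combination this - e])
  exact k.k5 n h5 (by omega) _ e5 r5 ((h.tb.t5 h5 _ e5 (by decide +kernel) r5).2 (.inr (by omega)))

omit [FiniteDimensional K W] [IsAlgClosed K] in
theorem c6a {r r' : An 6 →* End K (N K)} {l : An 6 →* End K W} (h : HN q r r' l)
    (hp : (2 : K) = 0 ∨ (5 : K) = 0) : False := by
  have s := h.sco g6a
  have dr := h.tb.dr
  have c := dm_conj (r := r) c1
  have e2 : a6a ^ 2 = 1 := by decide +kernel
  have e5 : (a6a * b6a) ^ 5 = 1 := by decide +kernel
  by_cases h2 : (2 : K) = 0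
  · have := h.tb.i2 h2 _ e2
    have := half h2 r b6a
    have := h.tb.n5 (fun e => one_ne_zero (α := K) (by linear_combination e - 2 * h2)) _ e5
      (by decide +kernel) r5
    omega
  have h5 := hp.resolve_left h2
  have h3 : (3 : K) ≠ 0 := fun e => h2 (by linear_combination h5 - e)
  have := un r 1 Nat.prime_five (by exact_mod_cast h5) e5
  rcases h.tb.n2 h2 _ e2 (by decide +kernel) with e | ⟨e, -⟩
  · have := h.tb.n4 h2 _ (by decide +kernel) r4 (c.trans e.1)
    omega
  let x : An 6 := ap ![5, 0, 2, 3, 4, 1] ![1, 5, 2, 3, 4, 0]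
  let y : An 6 := ap ![0, 1, 3, 4, 2, 5] ![0, 1, 4, 2, 3, 5]
  obtain ⟨β, hβ⟩ := exists_br h.tb.hq h.tb.q2 r
  have k := fun (ε : ℤ) (hε : ε ^ 2 = 1) => hβ.s36 (x := x) (y := y) (u := b6a) h2 h3
    (by decide +kernel) (by decide +kernel) (by rw [Commute, SemiconjBy]; decide +kernel)
    (by decide +kernel) (by decide +kernel) hε
  have c2 := dm_conj (r := r) (x := a6b) (y := x)
    (isConj_iff.2 ⟨ap ![2, 4, 0, 3, 1, 5] ![2, 4, 0, 3, 1, 5], by decide +kernel⟩)
  have c3 := dm_conj (r := r) (x := b6b) (y := x * y)
    (isConj_iff.2 ⟨ap ![2, 0, 5, 4, 3, 1] ![1, 5, 0, 4, 3, 2], by decide +kernel⟩)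
  have c4 := dm_conj (r := r) (four (g := a6b * b6b) (by decide +kernel) (by decide +kernel))
  have k1 := k 1 rfl
  have k2 := k (-1) rfl
  rw [← c2, ← c3, c, e, dr] at k1 k2
  obtain ⟨a, k1⟩ : ∃ a : ℕ, _ = 36 * (a : ℂ) := ⟨_, k1⟩
  obtain ⟨b, k2⟩ : ∃ a : ℕ, _ = 36 * (a : ℂ) := ⟨_, k2⟩
  have k1 : (6 * (dm r a6b + dm r b6b) - 81 + 9 * ((4 * dm r b6a - 22) - 5) : ℤ) = 36 * a := by
    exact_mod_cast (show ((6 * (dm r a6b + dm r b6b) - 81 + 9 * ((4 * dm r b6a - 22) - 5) : ℂ)) =
      36 * a by rw [← k1]; push_cast; ring)
  have k2 : (6 * (dm r a6b + dm r b6b) - 81 + 9 * (-(4 * dm r b6a - 22) - 5) : ℤ) = 36 * b := by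
    exact_mod_cast (show ((6 * (dm r a6b + dm r b6b) - 81 + 9 * (-(4 * dm r b6a - 22) - 5) : ℂ)) =
      36 * b by rw [← k2]; push_cast; ring)
  have := h.sco g6b
  have := h.tb.n3 h3 _ (by decide +kernel) (by decide +kernel) r3
  have := h.tb.n3 h3 _ (by decide +kernel) (by decide +kernel) r3'
  omega

omit [IsAlgClosed K] in
theorem c6b {r r' : An 6 →* End K (N K)} {l : An 6 →* End K W} (h : HN q r r' l) (k : HL q nw l)
    (h3 : (3 : K) = 0) (k2 : nw → ∀ t, t ^ 2 = 1 → dm l t = 46 → q ≤ 5) :
    q ≠ 3 ∧ (∀ t, t ^ 2 = 1 → t ≠ 1 → dm r t = 15) ∧ (∀ u, u ^ 4 = 1 → u ^ 2 ≠ 1 → dm r u = 7) ∧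
      ∀ y, y ^ 5 = 1 → y ≠ 1 → dm r y = 5 := by
  have s := h.sco g6a
  have h2 : (2 : K) ≠ 0 := fun e => one_ne_zero (α := K) (by linear_combination h3 - e)
  have h5 : (5 : K) ≠ 0 := fun e => h2 (by linear_combination e - h3)
  have e2 : a6a ^ 2 = 1 := by decide +kernel
  have e5 : (a6a * b6a) ^ 5 = 1 := by decide +kernel
  have a := h.tb.n5 h5 _ e5 (by decide +kernel) r5
  have b := h.tb.t5 h5 _ e5 (by decide +kernel) r5
  rcases h.tb.n2 h2 _ e2 (by decide +kernel) with ⟨e, -⟩ | ⟨-, e⟩
  · have := h.tb.n4 h2 _ (by decide +kernel) r4 ((dm_conj c1).trans e)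
    refine ⟨fun e => by have := a.2 (.inr (by omega)); omega, fun t m n => (dm_conj (two m n)).symm.trans e,
      fun t m n => (dm_conj (four m n)).symm.trans (by omega), fun t m n => ?_⟩
    rcases five m n with c | c <;> rw [← dm_conj c]
    · omega
    · rw [dm_sq r e5]; omega
  have := h.tb.t4 h2 _ (by decide +kernel) (by decide +kernel) r4
  rw [dm_conj c1] at this
  have n := k.sco g6a (by omega)
  have h4 := k2 n _ e2 e
  have h6 := h.tb.q2
  have h7 := h.tb.hq
  have : q = 3 := by
    interval_cases q <;> push_cast at h7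
    exacts [(h2 h7).elim, rfl, (one_ne_zero (α := K) (by linear_combination h7 - h3)).elim, (h5 h7).elim]
  exact (k.k5 n h5 (by omega) _ e5 r5 (b.2 (.inr (by omega)))).elim

omit [IsAlgClosed K] in
theorem c6n {l : An 6 →* End K W} (k : HL q nw l)
    (x3 : ∀ x, x ^ 3 = 1 → x ≠ 1 → dm l x = 30) : nw := by
  have a := x3 a6b (by decide +kernel) (by decide +kernel)
  have b := x3 b6b (by decide +kernel) (by decide +kernel)
  have c := dm_conj (r := l) (four (g := a6b * b6b) (by decide +kernel) (by decide +kernel))
  have dl := k.tl.dl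
  refine k.sco g6b ?_
  by_cases h2 : (2 : K) = 0
  · have := un l 2 Nat.prime_two (by exact_mod_cast h2) (x := b6a) (by decide +kernel)
    omega
  · have := k.tl.t4 h2 _ (by decide +kernel) (by decide +kernel) r4
    omega

end CF.Am
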