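import Cfsg.Agent.Am.B
import Cfsg.Agent.Al.C3a

/-! An enumeration of `A₆`, its classes and the block of defect zero modulo three. -/

set_option autoImplicit false
set_option maxRecDepth 100000

namespace CF.Am.C6a

open Equiv Finset Module CF.Al CF.E83
open CF.Al.C3 (pk cm fc fc_eq chk chk_nd)

/-- The code of an element. -/
def cd (g : An 6) : ℕ := C3.cd (up g)

theorem ap_cd (g : An 6) (i : Fin 6) : C3.ap (cd g) i = g.1 i :=
  (C3.ap_cd (up g) i.castSucc).trans (congrArg Fin.val (up_cast g i))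

theorem cd_inj {g h : An 6} (e : cd g = cd h) : g = h := up_inj (C3.cd_inj e)

theorem cd_mul (g h : An 6) : cd (g * h) = cm (cd g) (cd h) := by rw [cd, map_mul, C3.cd_mul]; rfl

theorem eq_one {g : An 6} : g = 1 ↔ cd g = 1754760 := by rw [cd, ← C3.eq_one, map_eq_one_iff _ up_inj]

/-- Coset representatives. -/
def u' (k j : Fin 6) : An 6 :=
  if h : k = j then 1 else ⟨swap k j * swap 4 5, by simp [Perm.mem_alternatingGroup, Perm.sign_swap h]⟩

/-- Coset representatives. -/
def u (k j : ℕ) : An 6 := u' (Fin.ofNat 6 k) (Fin.ofNat 6 j)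

/-- Their codes. -/
def uc (k j : ℕ) : ℕ := 0x1ac6881ac6881a3a881a27481a16a81a068d1ac6881ac68819d88819570818d6a018568c1a3a8819d8881ac6881a54c81a52981a508b1a27481957081a54c81ac6881a56501a560a1a16a818d6a01a52981a56501ac6881a56811a068d18568c1a508b1a560a1a56811ac688 >>> (24 * (6 * k + j)) % 2 ^ 24

theorem cd_u : ∀ k < 6, ∀ j < 6, cd (u k j) = uc k j := by decide +kernel

/-- The enumeration. -/
def el (n : ℕ) : An 6 := u 0 (n % 6) * (u 1 (1 + n / 6 % 5) * (u 2 (2 + n / 30 % 4) * u 3 (3 + n / 120 % 3)))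

/-- The codes. -/
def ec (n : ℕ) : ℕ := fc n fun n => cm (uc 0 (n % 6)) (cm (uc 1 (1 + n / 6 % 5)) (cm (uc 2 (2 + n / 30 % 4))
  (uc 3 (3 + n / 120 % 3))))

theorem cd_el (n : ℕ) : cd (el n) = ec n := by
  rw [el, ec, fc_eq, cd_mul, cd_mul, cd_mul, cd_u, cd_u, cd_u, cd_u] <;> omega

theorem nd : chk ((List.range 360).map fun n => ec n % 4096) 0 = true := by decide +kernel

theorem el_inj : Set.InjOn el (range 360 : Finset ℕ) := fun a ha b hb e =>
  List.inj_on_of_nodup_map (chk_nd _ _ nd).1 (by simpa using ha) (by simpa using hb)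
    (by rw [← cd_el, ← cd_el, e])

theorem img : (range 360).image el = univ := by
  refine eq_univ_of_card _ ?_
  have := two_mul_card_alternatingGroup (α := Fin 6)
  rw [Fintype.card_perm, Fintype.card_fin, Fintype.card_eq_nat_card] at this
  rw [card_image_of_injOn el_inj, card_range, Fintype.card_eq_nat_card]
  simp only [Nat.factorial] at this
  change _ = Nat.card (alternatingGroup (Fin 6))
  omega

theorem sum_el {M : Type*} [AddCommMonoid M] (F : An 6 → M) : ∑ g, F g = ∑ n ∈ range 360, F (el n) := by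
  rw [← img, sum_image el_inj]

/-- Classes and conjugating elements. -/
def TB : ℕ := 0x1e62da2aa19e1e204c3d23f60d63f26921640ae25a2ba25624a0ab3ea1c63de3ca6ca1c326335312406423a0e90823d34b43f33dc0ac34e1820d21c218631b1124fb4234ec3f40dc1725043db3cb4fc01b08307c0631441da34d0ca3e43d45235031630960920da0e21fe1040524535244244b331c0223cc3e34544eb12b26c1431332640ea1fd10c1141d32fa19b2c91d41731b427a16b19d1130fc1742ca0f30ad39229a28a27e01e0c92713f53dd09125901d1b218e0a21922ee01c43c08a40b4cc40304b41c11a3fc43b42b06b3fb17a4e440c3c32bc08b33435407b1a22ed19641240e4a24020db1ea0de1fa1f62d21932a224620a1ce33a12c3c63fa0a66b23c206c07408433326b3220b10c225e0aa0ba09e2bb4cb09a45b3c447c1c440405a41b47b43410343302a42c4e345c19413407308c1230b225d16c10b15339a11c0dd1b318b0f420215427911b19c0fb38218c1cd3b227229204e2760993c529140d0a11f904d0cb0936ba0040343e10130444aa0330241955f24520165d245602109c0233e200b0cc0a54712450e11f53f901505b0bc41a0940430d502c01445a0bb09b4a95fa47245e47a04602900c02b5da05c0031c51e54790b92553e90456625ca03e5a65a20595aa5c25b600e63a0510363ae0120320423ad28e00601a00a00228d0a90d95b55a50192395c918d2493c109d00d0955a11e93d118503d2091e145d0014552013c940100927d2754590350052994515c1000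

/-- The class. -/
def cl (n : ℕ) : ℕ := TB >>> (12 * n) % 8

/-- The conjugating element. -/
def cj (n : ℕ) : ℕ := TB >>> (12 * n + 3) % 512

/-- Class representatives. -/
def ri (i : ℕ) : ℕ := [0, 14, 37, 67, 116, 4, 40].getD i 0

theorem tb : ((List.range 360).all fun n =>
    cl n < 7 && cm (ec (cj n)) (ec (ri (cl n))) == cm (ec n) (ec (cj n))) = true := by decide +kernel

theorem cls {n : ℕ} (h : n < 360) : cl n < 7 ∧ el (cj n) * el (ri (cl n)) * (el (cj n))⁻¹ = el n := by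
  have := List.all_eq_true.1 tb n (List.mem_range.2 h)
  rw [Bool.and_eq_true, decide_eq_true_eq, beq_iff_eq] at this
  exact ⟨this.1, mul_inv_eq_iff_eq_mul.2 (cd_inj (by rw [cd_mul, cd_mul, cd_el, cd_el, cd_el, this.2]))⟩

theorem cnt : ∀ i < 7, ((List.range 360).filter fun n => cl n = i).length =
    [1, 45, 90, 72, 72, 40, 40].getD i 0 := by decide +kernel

theorem sum_cl (F : An 6 → ℂ) (hF : ∀ g h, F (h * g * h⁻¹) = F g) : ∑ g, F g =
    ∑ i ∈ range 7, ([1, 45, 90, 72, 72, 40, 40].getD i 0 : ℕ) * F (el (ri i)) := by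
  rw [sum_el, ← sum_fiberwise_of_maps_to (t := range 7) (g := cl) fun n hn => mem_range.2 (cls (mem_range.1 hn)).1]
  refine sum_congr rfl fun i hi => ?_
  rw [sum_congr rfl fun n hn => (?_ : _ = F (el (ri i))), sum_const, nsmul_eq_mul, ← cnt i (mem_range.1 hi)]
  · rfl
  · rw [← (cls (mem_range.1 (mem_filter.1 hn).1)).2, hF, (mem_filter.1 hn).2]

/-- The character of degree nine. -/
def a (g : An 6) : ℤ := if g = 1 then 9 else if g ^ 3 = 1 then 0 else if g ^ 5 = 1 then -1 else 1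

/-- The same on codes. -/
def ac (c : ℕ) : ℤ := fc c fun c => if c = 1754760 then 9 else fc (cm c c) fun c2 => fc (cm c2 c) fun c3 =>
  if c3 = 1754760 then 0 else if cm c3 c2 = 1754760 then -1 else 1

theorem a_cd (g : An 6) : a g = ac (cd g) := by
  simp only [a, ac, fc_eq, ← cd_mul, ← eq_one, show g * g = g ^ 2 from (sq g).symm, ← pow_add, ← pow_succ]

theorem a_aut (α : MulAut (An 6)) (g : An 6) : a (α g) = a g := by
  simp only [a, ← map_pow, map_eq_one_iff α α.injective]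

theorem a_conj (g h : An 6) : a (h * g * h⁻¹) = a g := a_aut (MulAut.conj h) g

theorem a_inv (g : An 6) : a g⁻¹ = a g := by simp only [a, inv_pow, inv_eq_one]

theorem cv : ∀ i < 7, fc (ec (ri i)) (fun r => ((List.range 360).map fun n =>
    fc (ec n) fun c => ac c * ac (cm c r)).sum) = 40 * ac (ec (ri i)) := by decide +kernel

theorem conv (g : An 6) : ∑ h, a h * a (h⁻¹ * g) = 40 * a g := by
  obtain ⟨n, hn, rfl⟩ := mem_image.1 (img.ge (mem_univ g))
  obtain ⟨h9, e⟩ := cls (mem_range.1 hn)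
  have := cv _ h9
  simp only [fc_eq, ← cd_el, ← cd_mul, ← a_cd] at this
  rw [← e, a_conj, ← this]
  generalize el (cj n) = c
  generalize el (ri (cl n)) = r
  rw [← Fintype.sum_equiv ((Equiv.inv (An 6)).trans (MulAut.conj c).toEquiv) (fun h => a h * a (h * r)) _
    fun h => ?_, sum_el]
  · rfl
  · simp only [Equiv.trans_apply, Equiv.inv_apply, MulEquiv.toEquiv_eq_coe, MulEquiv.coe_toEquiv, MulAut.conj_apply]
    rw [a_conj, a_inv, ← a_conj (h * r) c]
    congr 2
    group

/-- The coset sums. -/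
def c (k l : Fin 6) : ℤ := if k = l then 0 else if k < 4 ∧ l < 4 then 2 else if k < 4 ∨ l < 4 then -3 else 12

theorem cs : ∀ k l : Fin 6, ((List.range 360).map fun n => fc (ec n) fun x =>
    if C3.ap x 4 = k ∧ C3.ap x 5 = l then ac x else 0).sum = c k l := by decide +kernel

theorem tr2 : ∀ k l : Fin 6, k ≠ l → ∃ n < 360, C3.ap (ec n) 4 = k ∧ C3.ap (ec n) 5 = l := by decide +kernel

theorem ex2 {k l : Fin 6} (h : k ≠ l) : ∃ g : An 6, g.1 4 = k ∧ g.1 5 = l :=
  let ⟨n, _, e⟩ := tr2 k l h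
  ⟨el n, Fin.ext (by rw [← ap_cd, cd_el]; exact e.1), Fin.ext (by rw [← ap_cd, cd_el]; exact e.2)⟩

variable {K V : Type*} [Field K] [AddCommGroup V] [Module K V]

theorem sum45 (F : Fin 6 → Fin 6 → V) :
    ∑ g : An 6, (a g : K) • F (g.1 4) (g.1 5) = ∑ k, ∑ l, (c k l : K) • F k l := by
  have e : ∀ k l, c k l = ∑ g : An 6, if g.1 4 = k ∧ g.1 5 = l then a g else 0 := fun k l => by
    rw [← cs, sum_el]
    simp only [fc_eq, ← cd_el, ← a_cd, Fin.ext_iff, ← ap_cd]
    rfl
  simp only [e, Int.cast_sum, sum_smul, sum_comm (s := (univ : Finset (Fin 6))) (t := (univ : Finset (An 6)))]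
  refine sum_congr rfl fun g _ => ?_
  simp [ite_and, ite_smul]

theorem key [FiniteDimensional K V] {r : An 6 →* End K V} {β : An 6 → ℂ} (h : Br r β) (h3 : (3 : K) = 0) :
    2 * finrank K (LinearMap.range (ga r a)) + 9 * dm r (el 67) = 9 * dm r (el 37) ∧ el 37 ^ 4 = 1 ∧
      el 37 ^ 2 ≠ 1 ∧ el 67 ^ 5 = 1 ∧ el 67 ≠ 1 := by
  have k : el 37 ^ 4 = 1 ∧ el 37 ^ 2 ≠ 1 ∧ el 67 ^ 5 = 1 ∧ el 67 ≠ 1 ∧ el 0 = 1 ∧ el 14 = el 37 ^ 2 ∧
      el 116 = el 67 ^ 2 ∧ el 2 * el 37 * (el 2)⁻¹ = el 37 ^ 3 ∧ el 2 * el 67 * (el 2)⁻¹ = el 67 ^ 4 ∧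
      el 2 * el 67 ^ 2 * (el 2)⁻¹ = el 67 ^ 3 := by decide +kernel
  have av : ∀ i < 7, ac (ec (ri i)) = [9, 1, 1, -1, -1, 0, 0].getD i 0 := by decide +kernel
  obtain ⟨u4, u2, y5, y1, e0, e1, e2, c1, c2, c3⟩ := k
  have h2 : (2 : K) ≠ 0 := fun e => one_ne_zero (α := K) (by linear_combination h3 - e)
  have h5 : (5 : K) ≠ 0 := fun e => one_ne_zero (α := K) (by linear_combination 2 * h3 - e)
  have e := h.rk a 40 (fun e => one_ne_zero (α := K) (by push_cast at e; linear_combination e - 13 * h3)) conv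
  rw [sum_cl _ fun g c => by rw [a_conj, h.conj],
    sum_congr rfl fun i hi => by rw [a_cd, cd_el, av i (mem_range.1 hi)]] at e
  have y := h.cyc (n := 5) (by exact_mod_cast h5) y5
  have t := h.two h2 (x := el 37 ^ 2) (by rw [← pow_mul, u4])
  have u := h.four h2 u4 (isConj_iff.2 ⟨_, c1⟩)
  simp only [sum_range_succ, range_zero, sum_empty, pow_zero, pow_one, h.one, ← c2, ← c3, h.conj] at y
  simp only [sum_range_succ, range_zero, sum_empty, ri, List.getD_cons_zero, List.getD_cons_succ, e0, e1, e2,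
    h.one] at e
  refine ⟨Nat.cast_injective (R := ℂ) ?_, u4, u2, y5, y1⟩
  rw [ga]
  push_cast at e y ⊢
  linear_combination (-e + 45 * t + 90 * u - 36 * y) / 20

end CF.Am.C6a
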