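import Cfsg.Agent.Am.A
import Cfsg.Agent.ExA.C

/-! Four-groups in the torus of `E₆`: the normal form. -/

set_option autoImplicit false

namespace CF.Am.V6

open Module Function Cfsg.Lie CF.E83 CF.Al CF.Chev CF.BN CF.ExA Matrix Finset
open CF.Geom.E6 (wt p1 p2 ep)

/-- The bits. -/
def bz (x : ℕ) (i : Fin 6) : ℤ := (x / 2 ^ i.1 : ℕ)

/-- The simple reflections on the codes. -/
def sr (k x : ℕ) : ℕ := x ^^^ ((0x10281609_0804 >>> (8 * k) % 256 &&& x) * 0x1 |> fun m =>
  (m + m / 2 + m / 4 + m / 8 + m / 16 + m / 32) % 2) <<< k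

/-- The next reflection. -/
def nx (x y : ℕ) : ℕ := 0x168140a00a05000008800804804004040000a05005028168a05140140a05000008100804120004200000168005005168a05005a00a050006008008041201000c0000168140028168168005140a05000600100804804100600000a05140005168000000000000000000000000000000000000000000000000b40005b4000500001090000402410000040002d14002d14000000000000000000000000000000000000000000000000002d140b40005000400900004900004000400b4000502d140a28145140a00000608600003043000600003a28145005028145145a00a000006080c00032180000c0003145145028028000000000000000000000000000000000000000000000000000000000000000000000000000000000000000000000000b6d000b40000000410000402000082000402b6d00002d000000000000000000000000000000000000000000000000000000000000000000000000000000000000000000000000000b6d1450000000000006c04030000006c0403b6d14500000000000000000000000000000000000000000000000000000000000000000000000000000000000000000000000000000000000000000000000000000000000000000000000000000000000000000000000000000000000000000000000000000001b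0026c04000000186c040001b0026c040001b0020000c00000000000000000000000000000000000000000000000002400802404000006002404002400802404002400800000c00000000000000000000000000000000000000000000000008201046000030006081008008201046000030430000040201041040c00030006088008001041040c00032180000200200000000000000000000000000000000000000000000000000000000000000000000000000000000000000000000000009240000004020004109000009240000004020000820240000000000000000000000000000000000000000000000000000000000000000000000000000000000000000000000000009241046c04030000000000009241046c04030000000000008040040400000000088008041201002004002000000200e01200042000000000081008048041000404020500020040e01201000c00000006008008048040046004030180000200e08041006000000006001008041200040c00034030800040e00000000000000000000000000000000000000000000000000241000004000000109000049000046c000301b0800241000000000000000000000000000000000000000000000000009000040004000004009000040241002800012400020241000430006000030006086000032180000c06002180000000182180000c000300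06080c00030430826004000430820100180000000000000000000000000000000000000000000000000000000000000000000000000000000000000000000000000000820004020004100004024100006c00004100000100000000000000000000000000000000000000000000000000000000000000000000000000000000000000000000000000000000006c04030000006c040325b0c200000025b082000000a05005a00a050000080400002000002000000180000100c0168005140a050000082000000500020804024030800000c0168140a00a050006000c00000180006004032000000100c8a05140140a050006006000004030800c04030500020000c800000000000000000000000000000000000000000000000002d140b4000500001000040001b0c06c00032400020100c0000000000000000000000000000000000000000000000000b40005b4000500040000040024000224000101b0800100c0000000000000000000000000000000000000000000000000000000000000000000000000000000000000000000000000a28145140a000000001008008201040c0400218000000018145145a00a00000000800800104104600600043082010018000000000000000000000000000000000000000000000000b6d14500000000061800000092410400000025b082000000b6d000b400000000009000009240006c0000410000010000000000000000000000000000000000000000000000000000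 >>> (3 * (64 * x + y)) % 8 % 6

/-- Forcing. -/
def fo (n : ℕ) (f : ℕ → Bool) : Bool := Nat.rec (f 0) (fun m _ => f (m + 1)) n

theorem fo_eq (n : ℕ) (f : ℕ → Bool) : fo n f = f n := by cases n <;> rfl

/-- The reduction to the standard pair. -/
def red (f : ℕ) : ℕ → ℕ → Bool := Nat.rec (fun _ _ => false) (fun _ ih x y => (x == 14 && y == 1) ||
  fo (nx x y) fun k => fo (sr k x) fun x' => fo (sr k y) fun y' => ih x' y') f

/-- The good codes. -/
abbrev gd (x : ℕ) : Prop := 0xf5c90ac9f5c9f536 >>> x % 2 = 1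

theorem c1 : ∀ x < 64, gd x → ∀ y < 64, gd y → gd (x ^^^ y) → red 16 x y = true := by decide +kernel

theorem c2 : ∀ x < 64, #{a | (∑ i, bz x i * wt a i) % 2 = 0} = 15 → gd x := by decide +kernel

theorem c3 : ∀ (k : Fin 6), ∀ x < 64, sr k x < 64 ∧ ∀ i, (∑ j, ((if i = j then 1 else 0) -
    if i = k then (cmE6.getD j []).getD k 0 else 0) * bz x j - bz (sr k x) i) % 2 = 0 := by decide +kernel

theorem c4 : ∀ x < 64, ∀ y < 64, x ^^^ y < 64 ∧ ∀ i, (bz x i + bz y i - bz (x ^^^ y) i) % 2 = 0 := by
  decide +kernel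

theorem c5 : ∀ b : Fin 6 → Fin 2, ∃ x < 64, ∀ i, (bz x i - (b i).1) % 2 = 0 := by decide +kernel

/-- Two simple coroots of the first `SL₃`. -/
def Y : Fin 2 → Fin 6 → ℤ := ![![0, 1, 1, 1, 0, 0], ![-1, 0, 0, 0, 0, 0]]

/-- Their diagonal entries. -/
def E : Fin 2 → Fin 3 → ℤ := ![![0, 1, -1], ![1, 0, -1]]

/-- Their weights. -/
def W (k : Fin 2) (a : I27) : ℤ := if a.1 = 0 then E k a.2.1 else if a.1 = 2 then -E k a.2.2 else 0

theorem c6 : ∀ k a, ∑ i, Y k i * wt a i = W k a := by decide +kernel

theorem c7 : ∀ r : Fin 72, (∀ k, (∑ i, Y k i * tabE6.car i r) % 2 = 0) →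
    ∀ k, ∑ i, Y k i * tabE6.car i r = 0 := by decide +kernel

theorem c8 : ∀ a b : I27, (∀ k, (W k a - W k b) % 2 = 0) → (∀ k, W k a = W k b) ∨
    ∃ c n, (p1 c n = a ∧ p2 c n = b ∨ p1 c n = b ∧ p2 c n = a) ∧ ∀ m, m ≠ n →
      (∃ k, (W k (p1 c m) - W k a) % 2 ≠ 0) ∨ ∃ k, (W k (p2 c m) - W k a) % 2 ≠ 0 := by
  decide +kernel

theorem c9 : ∀ i, (bz 14 i - Y 0 i) % 2 = 0 ∧ (bz 1 i - Y 1 i) % 2 = 0 := by decide +kernel

theorem li : LinearIndependent ℤ Y := by
  rw [show Y = ![Y 0, Y 1] from rfl, LinearIndependent.pair_iff]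
  intro s t h
  have h0 := congrFun h 0
  have h1 := congrFun h 1
  simp [Y] at h0 h1
  exact ⟨h1, h0⟩

variable {K : Type*} [Field K]

theorem neg_zp {a b : ℤ} (h : (a - b) % 2 = 0) : (-1 : Kˣ) ^ a = (-1) ^ b := by
  obtain ⟨k, hk⟩ := Int.dvd_of_emod_eq_zero h
  rw [show a = b + 2 * k by omega, _root_.zpow_add, _root_.zpow_mul, zpow_two]
  simp

theorem neg_iff (h2 : (2 : K) ≠ 0) {a b : ℤ} : (-1 : Kˣ) ^ a = (-1) ^ b ↔ (a - b) % 2 = 0 := by
  refine ⟨fun h => by_contra fun n => h2 ?_, neg_zp⟩
  rw [neg_zp (b := b + 1) (by omega), _root_.zpow_add, mul_eq_left, zpow_one, Units.ext_iff] at h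
  simp only [Units.val_neg, Units.val_one] at h
  linear_combination -h

theorem neg_one (h2 : (2 : K) ≠ 0) {a : ℤ} : (-1 : Kˣ) ^ a = 1 ↔ a % 2 = 0 := by
  simpa using neg_iff h2 (a := a) (b := 0)

/-- A sign vector. -/
def pm (K : Type*) [Field K] (x : ℕ) : Fin 6 → Kˣ := fun i => (-1) ^ bz x i

theorem ex_pm {c : Fin 6 → Kˣ} (h : c ^ 2 = 1) : ∃ x < 64, c = pm K x := by
  have : ∀ i, ∃ b : Fin 2, c i = (-1) ^ ((b.1 : ℕ) : ℤ) := fun i => by
    have := congrArg Units.val (congrFun h i)
    simp only [Pi.pow_apply, Units.val_pow_eq_pow_val, Pi.one_apply, Units.val_one,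
      sq_eq_one_iff] at this
    rcases this with h | h
    · exact ⟨0, Units.ext (by simpa using h)⟩
    · exact ⟨1, Units.ext (by simpa using h)⟩
  choose b hb using this
  obtain ⟨x, hx, e⟩ := c5 b
  exact ⟨x, hx, funext fun i => (hb i).trans (neg_zp (e i)).symm⟩

variable {G : Type*} [Group G] {ρ : StRep cE6 K G} (h : Univ ρ)

theorem cj (k : Fin 6) {x : ℕ} (hx : x < 64) :
    ρ.ns k * h.r3.tor (pm K x) * (ρ.ns k)⁻¹ = h.r3.tor (pm K (sr k x)) := by
  rw [conj_tor h.r3 (StRep.nW_ns k).acts]
  refine congrArg _ ((mp_zpow _ _ _).trans (funext fun i => neg_zp ?_))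
  simpa only [mulVec, dotProduct, Mw_sref_apply, carE6'] using (c3 k x hx).2 i

theorem sound (f : ℕ) : ∀ x y, x < 64 → y < 64 → red f x y = true → ∃ n : G,
    n * h.r3.tor (pm K x) * n⁻¹ = h.r3.tor (pm K 14) ∧
      n * h.r3.tor (pm K y) * n⁻¹ = h.r3.tor (pm K 1) := by
  induction f with
  | zero => intro x y _ _ e; exact absurd e Bool.false_ne_true
  | succ f ih =>
    intro x y hx hy e
    have e' : ((x == 14 && y == 1) || fo (nx x y) fun k => fo (sr k x) fun x' => fo (sr k y) fun y' =>
      red f x' y') = true := e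
    simp only [fo_eq, Bool.or_eq_true, Bool.and_eq_true, beq_iff_eq] at e'
    rcases e' with ⟨rfl, rfl⟩ | e'
    · exact ⟨1, by simp⟩
    · let k : Fin 6 := ⟨nx x y, Nat.mod_lt _ (by norm_num)⟩
      obtain ⟨n, h1, h2⟩ := ih _ _ (c3 k x hx).1 (c3 k y hy).1 e'
      refine ⟨n * ρ.ns k, ?_, ?_⟩
      · rw [← h1, ← cj h k hx]; group
      · rw [← h2, ← cj h k hy]; group

variable {R : G →* End K (N K)} {ε : ℤ} (tor : ∀ c a, R (h.r3.tor c) (Pi.single a 1) =
    ((∏ i, c i ^ (ε * wt a i) : Kˣ) : K) • (Pi.single a 1 : N K))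
include tor

theorem act (z : Kˣ) (y : Fin 6 → ℤ) (v : N K) (a : I27) :
    R (h.r3.tor fun i => z ^ y i) v a = ((z ^ (ε * ∑ i, y i * wt a i) : Kˣ) : K) * v a := by
  have : R (h.r3.tor fun i => z ^ y i) =
      LinearMap.mulLeft K fun a : I27 => ((z ^ (ε * ∑ i, y i * wt a i) : Kˣ) : K) :=
    (Pi.basisFun K I27).ext fun b => funext fun a => by
      rw [Pi.basisFun_apply, tor, LinearMap.mulLeft_apply, Pi.mul_apply, mul_sum, zpow_sum']
      by_cases e : a = b
      · subst e; simp [← _root_.zpow_mul, mul_left_comm]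
      · simp [e]
  rw [this]; rfl

theorem act_dg (z : Kˣ) (k : Fin 2) :
    R (h.r3.tor fun i => z ^ Y k i) = dg fun i => z ^ (ε * E k i) := by
  refine LinearMap.ext fun v => funext fun a => ?_
  rw [act h tor, c6, W]
  simp only [dg, LinearMap.mulLeft_apply, Pi.mul_apply]
  split_ifs <;> simp

variable (h2 : (2 : K) ≠ 0) (sg : ε = 1 ∨ ε = -1)
include h2 sg

theorem gd_of {x : ℕ} (hx : x < 64) (d : dm R (h.r3.tor (pm K x)) = 15) : gd x := by
  classical
  refine c2 x hx ?_
  rw [← d, dm, (fs_eig _).1, finrank_eig (Pi.basisFun K I27)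
    (l := fun a => (((-1) ^ (ε * ∑ i, bz x i * wt a i) : Kˣ) : K)) fun a => funext fun b => ?_]
  · congr 1
    ext a
    simp only [mem_filter, mem_univ, true_and, Units.val_eq_one]
    rw [neg_one h2]
    rcases sg with rfl | rfl <;> omega
  · refine (act h tor _ _ _ _).trans ?_
    by_cases e : b = a
    · subst e; simp
    · simp [e]

theorem nf {s t : G} (T : Toral ρ {s, t}) (s2 : s ^ 2 = 1) (t2 : t ^ 2 = 1) (ds : dm R s = 15)
    (dt : dm R t = 15) (du : dm R (s * t) = 15) : ∃ g, s = g * h.r3.tor (fun i => (-1) ^ Y 0 i) * g⁻¹ ∧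
      t = g * h.r3.tor (fun i => (-1) ^ Y 1 i) * g⁻¹ := by
  obtain ⟨g, hg⟩ := T
  have k : ∀ u ∈ ({s, t} : Set G), u ^ 2 = 1 → ∃ x < 64, u = g * h.r3.tor (pm K x) * g⁻¹ :=
    fun u m e => by
      obtain ⟨c, hc⟩ := h.r3.range_tor.ge (hg u m)
      obtain ⟨x, hx, rfl⟩ := ex_pm (c := c) (h.inj (by rw [map_pow, hc, inv_conj_pow, e]; simp))
      exact ⟨x, hx, by rw [hc]; group⟩
  obtain ⟨x, hx, rfl⟩ := k s (by simp) s2
  obtain ⟨y, hy, rfl⟩ := k t (by simp) t2
  have dc : ∀ a, dm R (g * a * g⁻¹) = dm R a := fun a => (dm_conj (isConj_iff.2 ⟨g, rfl⟩)).symm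
  have e : h.r3.tor (pm K x) * h.r3.tor (pm K y) = h.r3.tor (pm K (x ^^^ y)) := by
    rw [← map_mul]
    exact congrArg _ (funext fun i => (_root_.zpow_add _ _ _).symm.trans (neg_zp ((c4 x hx y hy).2 i)))
  rw [conj_mul, e] at du
  rw [dc] at ds dt du
  obtain ⟨n, h1, h3⟩ := sound h 16 x y hx hy (c1 x hx (gd_of h tor h2 sg hx ds) y hy
    (gd_of h tor h2 sg hy dt) (gd_of h tor h2 sg (c4 x hx y hy).1 du))
  refine ⟨g * n⁻¹, ?_, ?_⟩
  · rw [← show pm K 14 = _ from funext fun i => neg_zp (c9 i).1, ← h1]; group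
  · rw [← show pm K 1 = _ from funext fun i => neg_zp (c9 i).2, ← h3]; group

theorem pure {v : N K} (hv : sh v = 0)
    (e : ∀ k, ∃ μ : K, R (h.r3.tor fun i => (-1) ^ Y k i) v = μ • v) (k : Fin 2) (t : Kˣ) :
    ∃ μ : K, R (h.r3.tor fun i => t ^ Y k i) v = μ • v := by
  have k1 : ∀ a b, v a ≠ 0 → v b ≠ 0 → ∀ k, (W k a - W k b) % 2 = 0 := fun a b ha hb k => by
    obtain ⟨μ, e⟩ := e k
    have e1 := congrFun e a
    have e2 := congrFun e b
    rw [act h tor, c6, Pi.smul_apply, smul_eq_mul] at e1 e2
    have := (neg_iff h2).1 (Units.ext ((mul_right_cancel₀ ha e1).trans (mul_right_cancel₀ hb e2).symm))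
    rcases sg with rfl | rfl <;> omega
  have k2 : ∀ a b, v a ≠ 0 → v b ≠ 0 → W k a = W k b := fun a b ha hb => by
    rcases c8 a b (k1 a b ha hb) with e | ⟨c, n, e1, e2⟩
    · exact e k
    have := congrFun hv c
    rw [sh, Geom.E6.Q, sum_eq_single n (fun m _ hm => ?_) (by simp)] at this
    · have e3 : ((ep n : ℤ) : K) ≠ 0 := by unfold ep; split_ifs <;> simp
      rcases e1 with ⟨rfl, rfl⟩ | ⟨rfl, rfl⟩ <;> simp [ha, hb, e3] at this
    · by_contra n0
      obtain ⟨-, n1⟩ := mul_ne_zero_iff.1 n0
      obtain ⟨n1, n2⟩ := mul_ne_zero_iff.1 n1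
      exact (e2 m hm).elim (fun ⟨k, e⟩ => e (k1 _ _ n1 ha k)) fun ⟨k, e⟩ => e (k1 _ _ n2 ha k)
  by_cases h0 : v = 0
  · exact ⟨0, by simp [h0]⟩
  obtain ⟨a, ha⟩ := Function.ne_iff.1 h0
  refine ⟨(t ^ (ε * W k a) : Kˣ), funext fun b => ?_⟩
  rw [act h tor, c6, Pi.smul_apply, smul_eq_mul]
  by_cases hb : v b = 0
  · simp [hb]
  · rw [k2 a b ha hb]

omit h2 in
theorem dg0 : R (h.r3.tor fun i => (-1) ^ Y 0 i) = dg ![1, -1, -1] ∧
    R (h.r3.tor fun i => (-1) ^ Y 1 i) = dg ![-1, 1, -1] := by
  rw [act_dg h tor, act_dg h tor]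
  constructor <;> congr 1 <;> funext i <;> rcases sg with rfl | rfl <;> fin_cases i <;> simp [E]

omit tor sg in
theorem orth (k : Fin 2) (r : Fin 72) (e : ∀ k, rv cE6 (fun i => (-1 : Kˣ) ^ Y k i) r = 1) :
    pr cE6 (Y k) (cE6.vec r) = 0 := by
  simp only [rv_zp, pr_vec, tabE6'.car] at e ⊢
  exact c7 r (fun k => (neg_one h2).1 (e k)) k

end CF.Am.V6
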